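import Mathlib
import Cfsg.Prelude.Def_Transfer
import Cfsg.Prelude.Def_Solvable

/-!
Groups with a large extraspecial 2-subgroup `Q z = O₂(C(z))`, everything phrased inside the ambient group.
-/

set_option autoImplicit false

namespace Cfsg.Agent.Lib.LargeExtraspecial.Basic

variable {G : Type*} [Group G]

/-- `P` is extraspecial with centre `{1, z}`, as seen from the ambient group. -/
structure ES (P : Subgroup G) (z : G) : Prop where
  mem : z ∈ P
  ne : z ≠ 1
  sq : z * z = 1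
  comm : ∀ p ∈ P, Commute p z
  center : ∀ q ∈ P, (∀ p ∈ P, Commute p q) → q = 1 ∨ q = z
  conj : ∀ q ∈ P, ∀ v ∈ P, q * v * q⁻¹ = v ∨ q * v * q⁻¹ = v * z

open Classical in
/-- `0` if `q` fixes `v` under conjugation, else `1`. -/
noncomputable def chi (q v : G) : ZMod 2 := if q * v * q⁻¹ = v then 0 else 1

theorem chi_eq_zero {q v : G} : chi q v = 0 ↔ Commute q v := by
  unfold chi
  by_cases h : q * v * q⁻¹ = v
  · rw [if_pos h]; exact iff_of_true rfl (mul_inv_eq_iff_eq_mul.mp h)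
  · rw [if_neg h]
    exact iff_of_false (by decide) (fun hc => h (mul_inv_eq_iff_eq_mul.mpr hc))

theorem chi_conj (c q v : G) : chi (c * q * c⁻¹) (c * v * c⁻¹) = chi q v := by
  have h : (c * q * c⁻¹) * (c * v * c⁻¹) * (c * q * c⁻¹)⁻¹ = c * (q * v * q⁻¹) * c⁻¹ := by group
  unfold chi
  rw [h]
  by_cases hc : q * v * q⁻¹ = v
  · rw [if_pos hc, if_pos (by rw [hc])]
  · rw [if_neg hc, if_neg (fun h2 => hc (mul_left_cancel (mul_right_cancel h2)))]

namespace ES

variable {P : Subgroup G} {z : G}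

theorem zinv (h : ES P z) : z⁻¹ = z := inv_eq_of_mul_eq_one_right h.sq

theorem chi_mul_left (h : ES P z) {q r v : G} (hq : q ∈ P) (hr : r ∈ P) (hv : v ∈ P) :
    chi (q * r) v = chi q v + chi r v := by
  have e : (q * r) * v * (q * r)⁻¹ = q * (r * v * r⁻¹) * q⁻¹ := by group
  have hz : q * z * q⁻¹ = z := mul_inv_eq_iff_eq_mul.mpr (h.comm q hq)
  have e2 : ∀ w : G, q * (w * z) * q⁻¹ = (q * w * q⁻¹) * z := by
    intro w
    calc q * (w * z) * q⁻¹ = (q * w * q⁻¹) * (q * z * q⁻¹) := by group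
      _ = (q * w * q⁻¹) * z := by rw [hz]
  have hne : v * z ≠ v := by simpa using h.ne
  unfold chi
  rw [e]
  rcases h.conj r hr v hv with h1 | h1 <;> rcases h.conj q hq v hv with h2 | h2 <;>
    simp [h1, h2, e2, hne, mul_assoc, h.sq] <;> decide

theorem chi_mul_right (h : ES P z) {q v w : G} (hq : q ∈ P) (hv : v ∈ P) (hw : w ∈ P) :
    chi q (v * w) = chi q v + chi q w := by
  have e : q * (v * w) * q⁻¹ = (q * v * q⁻¹) * (q * w * q⁻¹) := by group
  have hne : ∀ a : G, a * z ≠ a := fun a => by simpa using h.ne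
  have e2 : v * z * w = v * w * z := by rw [mul_assoc, ← (h.comm w hw).eq, mul_assoc]
  have e3 : v * z * (w * z) = v * w := by
    rw [← mul_assoc, e2, mul_assoc, h.sq, mul_one]
  unfold chi
  rw [e]
  rcases h.conj q hq v hv with h1 | h1 <;> rcases h.conj q hq w hw with h2 | h2
  · simp [h1, h2]
  · simp [h1, h2, hne, ← mul_assoc]
  · simp [h1, h2, e2, hne]
  · simp [h1, h2, e3, hne]; decide

theorem chi_comm (_h : ES P z) {q v : G} : chi q v = chi v q := by
  by_cases hc : Commute q v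
  · rw [chi_eq_zero.mpr hc, chi_eq_zero.mpr hc.symm]
  · have : ∀ a : ZMod 2, a ≠ 0 → a = 1 := by decide
    rw [this _ (fun h0 => hc (chi_eq_zero.mp h0)), this _ (fun h0 => hc (chi_eq_zero.mp h0).symm)]

theorem chi_center_right (h : ES P z) {q : G} (hq : q ∈ P) : chi q z = 0 :=
  chi_eq_zero.mpr (h.comm q hq)

theorem sq_cases (h : ES P z) {q : G} (hq : q ∈ P) : q * q = 1 ∨ q * q = z := by
  refine h.center _ (P.mul_mem hq hq) fun p hp => ?_
  apply chi_eq_zero.mp
  rw [h.chi_mul_right hp hq hq]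
  exact CharTwo.add_self_eq_zero _

theorem exists_conj_ne (h : ES P z) {v : G} (hv : v ∈ P) (h1 : v ≠ 1) (hz : v ≠ z) :
    ∃ q ∈ P, q * v * q⁻¹ = v * z := by
  by_contra hc
  push Not at hc
  exact (h.center v hv fun p hp =>
    mul_inv_eq_iff_eq_mul.mp ((h.conj p hp v hv).resolve_right (hc p hp))).elim h1 hz

end ES

/-- The family `x ↦ O₂(C(x))`. -/
def IsQ (Q : G → Subgroup G) : Prop :=
  ∀ x : G, Q x = (Cfsg.pCore 2 ↥(Subgroup.centralizer ({x} : Set G))).map
    (Subgroup.centralizer ({x} : Set G)).subtype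

theorem mem_centralizer_single {x c : G} :
    c ∈ Subgroup.centralizer ({x} : Set G) ↔ Commute c x := by
  rw [Subgroup.mem_centralizer_iff]
  exact ⟨fun h => (h x rfl).symm, fun h y hy => by rw [Set.mem_singleton_iff.mp hy]; exact h.eq.symm⟩

theorem pCore_normal (p : ℕ) (H : Type*) [Group H] : (Cfsg.pCore p H).Normal :=
  Subgroup.sSup_normal _ fun _ hN => hN.1

theorem IsQ.commute {Q : G → Subgroup G} (hQ : IsQ Q) {x q : G} (hq : q ∈ Q x) : Commute q x := by
  rw [hQ x] at hq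
  exact mem_centralizer_single.mp (Subgroup.map_subtype_le _ hq)

theorem IsQ.normal {Q : G → Subgroup G} (hQ : IsQ Q) {x q c : G} (hc : Commute c x) (hq : q ∈ Q x) :
    c * q * c⁻¹ ∈ Q x := by
  rw [hQ x] at hq ⊢
  obtain ⟨a, ha, rfl⟩ := hq
  exact ⟨⟨c, mem_centralizer_single.mpr hc⟩ * a * ⟨c, mem_centralizer_single.mpr hc⟩⁻¹,
    (pCore_normal 2 _).conj_mem a ha _, rfl⟩

theorem IsQ.mem_conj {Q : G → Subgroup G} (hQ : IsQ Q) (g : G) {x q : G} (hq : q ∈ Q x) :
    g * q * g⁻¹ ∈ Q (g * x * g⁻¹) := by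
  rw [hQ x] at hq
  rw [hQ (g * x * g⁻¹)]
  obtain ⟨a, ha, rfl⟩ := hq
  let φ : ↥(Subgroup.centralizer ({x} : Set G)) ≃*
      ↥(Subgroup.centralizer ({g * x * g⁻¹} : Set G)) :=
    { toFun := fun c => ⟨g * c.1 * g⁻¹, mem_centralizer_single.mpr
        ((mem_centralizer_single.mp c.2).map (MulAut.conj g))⟩
      invFun := fun c => ⟨g⁻¹ * c.1 * g, mem_centralizer_single.mpr (by
        simpa [MulAut.conj_apply, mul_assoc] using
          (mem_centralizer_single.mp c.2).map (MulAut.conj g⁻¹))⟩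
      left_inv := fun c => Subtype.ext (by dsimp; group)
      right_inv := fun c => Subtype.ext (by dsimp; group)
      map_mul' := fun c d => Subtype.ext (by dsimp; group) }
  refine ⟨φ a, ?_, rfl⟩
  have hle : (Cfsg.pCore 2 ↥(Subgroup.centralizer ({x} : Set G))).map φ.toMonoidHom ≤
      Cfsg.pCore 2 ↥(Subgroup.centralizer ({g * x * g⁻¹} : Set G)) := by
    rw [Cfsg.pCore, sSup_eq_iSup, Subgroup.map_iSup]
    refine iSup_le fun N => ?_
    rw [Subgroup.map_iSup]
    exact iSup_le fun hN => le_sSup ⟨hN.1.map _ φ.surjective, hN.2.map _⟩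
  exact hle ⟨a, ha, rfl⟩

theorem IsQ.mem_conj_iff {Q : G → Subgroup G} (hQ : IsQ Q) (g : G) {x q : G} :
    g * q * g⁻¹ ∈ Q (g * x * g⁻¹) ↔ q ∈ Q x := by
  refine ⟨fun h => ?_, hQ.mem_conj g⟩
  have := hQ.mem_conj g⁻¹ h
  simpa [mul_assoc] using this

theorem IsQ.self_mem [Finite G] {Q : G → Subgroup G} (hQ : IsQ Q) {x : G} (hx : x * x = 1) :
    x ∈ Q x := by
  rw [hQ x]
  let xc : ↥(Subgroup.centralizer ({x} : Set G)) := ⟨x, mem_centralizer_single.mpr (Commute.refl x)⟩
  refine ⟨xc, ?_, rfl⟩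
  refine (le_sSup ?_ : Subgroup.zpowers xc ≤ Cfsg.pCore 2 ↥(Subgroup.centralizer ({x} : Set G)))
    (Subgroup.mem_zpowers xc)
  show (Subgroup.zpowers xc).Normal ∧ IsPGroup 2 ↥(Subgroup.zpowers xc)
  refine ⟨?_, ?_⟩
  · refine ⟨fun n hn c => ?_⟩
    obtain ⟨k, rfl⟩ := hn
    have hcx : c * xc = xc * c := Subtype.ext (mem_centralizer_single.mp c.2).eq
    rw [(Commute.zpow_right (show Commute c xc from hcx) k).eq]
    simp
  · intro a
    refine ⟨1, Subtype.ext ?_⟩
    obtain ⟨k, hk⟩ := a.2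
    have h2 : xc * xc = 1 := Subtype.ext hx
    simp only [pow_one, sq, Subgroup.coe_mul, Subgroup.coe_one, ← hk]
    rw [← (Commute.refl xc).mul_zpow, h2, one_zpow]

theorem IsQ.eq_centralizer {Q : G → Subgroup G} (hQ : IsQ Q) {x : G}
    (hp : IsPGroup 2 ↥(Subgroup.centralizer ({x} : Set G))) {c : G} (hc : Commute c x) :
    c ∈ Q x := by
  rw [hQ x]
  have h : (⊤ : Subgroup ↥(Subgroup.centralizer ({x} : Set G))) ≤ Cfsg.pCore 2 _ :=
    le_sSup (show (⊤ : Subgroup ↥(Subgroup.centralizer ({x} : Set G))).Normal ∧ IsPGroup 2 _ from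
      ⟨inferInstance, hp.to_subgroup ⊤⟩)
  exact ⟨⟨c, mem_centralizer_single.mpr hc⟩, h (Subgroup.mem_top _), rfl⟩

theorem es_base [Finite G] {Q : G → Subgroup G} (hQ : IsQ Q) {z : G} (hz : orderOf z = 2)
    (hE : Cfsg.IsExtraspecial 2 ↥(Q z)) : ES (Q z) z := by
  have hsq : z * z = 1 := by rw [← sq, ← hz]; exact pow_orderOf_eq_one z
  have hne : z ≠ 1 := fun h => by simp [h] at hz
  have hmem : z ∈ Q z := hQ.self_mem hsq
  let zc : ↥(Q z) := ⟨z, hmem⟩
  have hcomm : ∀ p ∈ Q z, Commute p z := fun p hp => hQ.commute hp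
  have hzc : zc ∈ Subgroup.center ↥(Q z) :=
    Subgroup.mem_center_iff.mpr fun p => Subtype.ext (hcomm p.1 p.2).eq
  have hcases : ∀ q : ↥(Q z), q ∈ Subgroup.center ↥(Q z) → q.1 = 1 ∨ q.1 = z := by
    intro q hq
    by_contra hc
    push Not at hc
    have h3 : 3 ≤ Nat.card (Subgroup.center ↥(Q z)) := by
      have hs : ({1, zc, q} : Set ↥(Q z)) ⊆ (Subgroup.center ↥(Q z) : Set ↥(Q z)) := by
        intro a ha
        rcases ha with rfl | rfl | rfl
        · exact one_mem _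
        · exact hzc
        · exact hq
      have hcard : ({1, zc, q} : Set ↥(Q z)).ncard = 3 := by
        rw [Set.ncard_eq_three]
        exact ⟨1, zc, q, fun h => hne (congrArg Subtype.val h).symm,
          fun h => hc.1 (congrArg Subtype.val h).symm,
          fun h => hc.2 (congrArg Subtype.val h).symm, rfl⟩
      have := Set.ncard_le_ncard hs
      rw [hcard] at this
      exact this
    rw [hE.2] at h3; omega
  refine ⟨hmem, hne, hsq, hcomm, fun q hq h => hcases ⟨q, hq⟩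
    (Subgroup.mem_center_iff.mpr fun p => Subtype.ext (h p.1 p.2).eq), fun q hq v hv => ?_⟩
  have hk : (⟨v, hv⟩ : ↥(Q z))⁻¹ * (⟨q, hq⟩ * ⟨v, hv⟩ * ⟨q, hq⟩⁻¹) ∈ Subgroup.center ↥(Q z) := by
    rw [← hE.1.2.2]
    have := Subgroup.commutator_mem_commutator (H₁ := (⊤ : Subgroup ↥(Q z))) (H₂ := (⊤ : Subgroup ↥(Q z)))
      (g₁ := (⟨v, hv⟩ : ↥(Q z))⁻¹) (g₂ := ⟨q, hq⟩) (Subgroup.mem_top _) (Subgroup.mem_top _)
    rw [commutator_def]
    convert this using 1
    simp [commutatorElement_def, mul_assoc]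
  rcases hcases _ hk with h | h
  · left
    exact (inv_mul_eq_one.mp h).symm
  · right
    exact inv_mul_eq_iff_eq_mul.mp h

theorem es_conj {Q : G → Subgroup G} (hQ : IsQ Q) {z : G} (h : ES (Q z) z) (g : G) :
    ES (Q (g * z * g⁻¹)) (g * z * g⁻¹) := by
  have back : ∀ q ∈ Q (g * z * g⁻¹), g⁻¹ * q * g ∈ Q z := fun q hq => by
    simpa [mul_assoc] using hQ.mem_conj g⁻¹ hq
  refine ⟨hQ.mem_conj g h.mem, by simp [h.ne], ?_, fun p hp => hQ.commute hp, ?_, ?_⟩
  · calc g * z * g⁻¹ * (g * z * g⁻¹) = g * (z * z) * g⁻¹ := by group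
      _ = 1 := by rw [h.sq]; group
  · intro q hq hc
    have hq' : ∀ p ∈ Q z, Commute p (g⁻¹ * q * g) := fun p hp => by
      simpa [mul_assoc] using (hc _ (hQ.mem_conj g hp)).map (MulAut.conj g⁻¹)
    rcases h.center _ (back q hq) hq' with e | e
    · left
      calc q = g * (g⁻¹ * q * g) * g⁻¹ := by group
        _ = 1 := by rw [e]; group
    · right
      calc q = g * (g⁻¹ * q * g) * g⁻¹ := by group
        _ = g * z * g⁻¹ := by rw [e]
  · intro q hq v hv
    have e0 : q * v * q⁻¹ =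
        g * ((g⁻¹ * q * g) * (g⁻¹ * v * g) * (g⁻¹ * q * g)⁻¹) * g⁻¹ := by group
    rcases h.conj _ (back q hq) _ (back v hv) with e | e
    · left; rw [e0, e]; group
    · right; rw [e0, e]; group

theorem selfCentralizing_conj {Q : G → Subgroup G} (hQ : IsQ Q) {z : G}
    (hC : Subgroup.centralizer ((Q z : Subgroup G) : Set G) ≤ Q z) (g : G) {c : G}
    (hc : ∀ p ∈ Q (g * z * g⁻¹), Commute p c) : c ∈ Q (g * z * g⁻¹) := by
  have h : g⁻¹ * c * g ∈ Q z := hC (Subgroup.mem_centralizer_iff.mpr fun p hp => by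
    have := (hc _ (hQ.mem_conj g hp)).map (MulAut.conj g⁻¹)
    exact (by simpa [mul_assoc] using this : Commute p (g⁻¹ * c * g)).eq)
  simpa [mul_assoc] using hQ.mem_conj g h

/-- The functions additive on `U`. -/
def IsHomOn (U : Subgroup G) (f : G → ZMod 2) : Prop :=
  ∀ a ∈ U, ∀ b ∈ U, f (a * b) = f a + f b

theorem commute_of_sq {U : Subgroup G} (hU2 : ∀ u ∈ U, u * u = 1) {a b : G} (ha : a ∈ U) (hb : b ∈ U) :
    Commute a b := by
  have hi : ∀ u ∈ U, u⁻¹ = u := fun u hu => inv_eq_of_mul_eq_one_right (hU2 u hu)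
  show a * b = b * a
  rw [← hi _ (U.mul_mem ha hb), mul_inv_rev, hi a ha, hi b hb]

/-- An additive family of functionals on an elementary abelian 2-group contains every functional
killing its common kernel. -/
theorem exists_functional [Finite G] (U : Subgroup G) (hU2 : ∀ u ∈ U, u * u = 1) {ι : Type*}
    (φ : ι → G → ZMod 2) (hhom : ∀ i, IsHomOn U (φ i))
    (hzero : ∃ i, ∀ u ∈ U, φ i u = 0) (hadd : ∀ i j, ∃ k, ∀ u ∈ U, φ k u = φ i u + φ j u)
    (f : G → ZMod 2) (hf : IsHomOn U f)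
    (hker : ∀ u ∈ U, (∀ i, φ i u = 0) → f u = 0) : ∃ i, ∀ u ∈ U, φ i u = f u := by
  letI instCG : CommGroup ↥U :=
    { (inferInstance : Group ↥U) with mul_comm := fun a b => Subtype.ext (commute_of_sq hU2 a.2 b.2).eq }
  letI instMod : Module (ZMod 2) (Additive ↥U) := AddCommGroup.zmodModule fun a => by
    rw [two_nsmul]
    exact congrArg Additive.ofMul (Subtype.ext (hU2 _ (Additive.toMul a).2) : Additive.toMul a * Additive.toMul a = 1)
  let lin : ∀ g : G → ZMod 2, IsHomOn U g → (Additive ↥U →ₗ[ZMod 2] ZMod 2) := fun g hg =>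
    (AddMonoidHom.mk' (fun a => g (Additive.toMul a).1)
      (fun a b => hg _ (Additive.toMul a).2 _ (Additive.toMul b).2)).toZModLinearMap 2
  have hlin : ∀ g hg (u : ↥U), lin g hg (Additive.ofMul u) = g u := fun _ _ _ => rfl
  let S : Submodule (ZMod 2) (Module.Dual (ZMod 2) (Additive ↥U)) :=
    { carrier := Set.range fun i => lin (φ i) (hhom i)
      add_mem' := by
        rintro _ _ ⟨i, rfl⟩ ⟨j, rfl⟩
        obtain ⟨k, hk⟩ := hadd i j
        exact ⟨k, LinearMap.ext fun a => hk _ (Additive.toMul a).2⟩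
      zero_mem' := by
        obtain ⟨i, hi⟩ := hzero
        exact ⟨i, LinearMap.ext fun a => hi _ (Additive.toMul a).2⟩
      smul_mem' := by
        intro c x hx
        have : c = 0 ∨ c = 1 := by revert c; decide
        rcases this with rfl | rfl
        · obtain ⟨i, hi⟩ := hzero
          exact ⟨i, LinearMap.ext fun a => (hi _ (Additive.toMul a).2).trans (zero_mul _).symm⟩
        · simpa using hx }
  haveI instFin : Module.Finite (ZMod 2) (Additive ↥U) := Module.Finite.of_finite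
  have hfm : lin f hf ∈ S.dualCoannihilator.dualAnnihilator := by
    rw [Submodule.mem_dualAnnihilator]
    intro a ha
    exact hker _ (Additive.toMul a).2 fun i =>
      (Submodule.mem_dualCoannihilator a).mp ha _ ⟨i, rfl⟩
  rw [Subspace.dualCoannihilator_dualAnnihilator_eq] at hfm
  obtain ⟨i, hi⟩ := hfm
  exact ⟨i, fun u hu => by simpa [hlin] using LinearMap.congr_fun hi (Additive.ofMul ⟨u, hu⟩)⟩

end Cfsg.Agent.Lib.LargeExtraspecial.Basic
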