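import Cfsg.Agent.Lib.LargeExtraspecial.Basic

/-! Singular subgroups: elementary abelian subgroups of pairwise orthogonal conjugates of `z`. -/

set_option autoImplicit false

namespace Cfsg.Agent.Lib.LargeExtraspecial.Singular

open Cfsg.Agent.Lib.LargeExtraspecial.Basic

variable {G : Type*} [Group G]

/-- The hypotheses on a singular subgroup. -/
structure Sing (Q : G → Subgroup G) (U : Subgroup G) : Prop where
  isQ : IsQ Q
  sq : ∀ u ∈ U, u * u = 1
  es : ∀ u ∈ U, u ≠ 1 → ES (Q u) u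
  orth : ∀ u ∈ U, ∀ v ∈ U, u ≠ 1 → v ∈ Q u

theorem sing_of [Finite G] {Q : G → Subgroup G} (hQ : IsQ Q) {z : G} (hz : orderOf z = 2)
    (hE : Cfsg.IsExtraspecial 2 ↥(Q z)) {U : Subgroup G} (hU2 : ∀ u ∈ U, u * u = 1)
    (hS : ∀ u ∈ U, u ≠ 1 → ∃ g : G, g * z * g⁻¹ = u)
    (hO : ∀ u ∈ U, ∀ v ∈ U, u ≠ 1 → v ≠ 1 → v ∈ Q u) : Sing Q U := by
  refine ⟨hQ, hU2, fun u hu h1 => ?_, fun u hu v hv h1 => ?_⟩
  · obtain ⟨g, rfl⟩ := hS u hu h1
    exact es_conj hQ (es_base hQ hz hE) g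
  · by_cases hv1 : v = 1
    · exact hv1 ▸ one_mem _
    · exact hO u hu v hv h1 hv1

/-- The conjugation pairing, additive on an elementary abelian subgroup of `Q u`, realises every
functional killing the common centraliser. -/
theorem exists_chi [Finite G] {P : Subgroup G} {u : G} (h : ES P u) (U : Subgroup G) (hUP : U ≤ P)
    (hU2 : ∀ a ∈ U, a * a = 1) (f : G → ZMod 2) (hf : IsHomOn U f) (hfu : f u = 0) :
    ∃ q ∈ P, ∀ a ∈ U, chi q a = f a := by
  obtain ⟨⟨q, hq⟩, hqf⟩ := exists_functional U hU2 (ι := ↥P) (fun q => chi q.1)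
    (fun q a ha b hb => h.chi_mul_right q.2 (hUP ha) (hUP hb))
    ⟨1, fun a _ => chi_eq_zero.mpr (Commute.one_left a)⟩
    (fun q r => ⟨q * r, fun a ha => h.chi_mul_left q.2 r.2 (hUP ha)⟩) f hf
    (fun a ha hc => by
      rcases h.center a (hUP ha) (fun p hp => chi_eq_zero.mp (hc ⟨p, hp⟩)) with e | e
      · rw [e]
        have := hf 1 U.one_mem 1 U.one_mem
        rw [mul_one] at this
        simpa using this
      · rw [e, hfu])
  exact ⟨q, hq, hqf⟩

namespace Sing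

variable {Q : G → Subgroup G} {U : Subgroup G}

theorem commute (_h : Sing Q U) {a b : G} (ha : a ∈ U) (hb : b ∈ U) : Commute a b :=
  commute_of_sq _h.sq ha hb

theorem mem_inf (h : Sing Q U) : U ≤ ⨅ u ∈ ((U : Set G) \ {1}), Q u :=
  le_iInf₂ fun u hu v hv => h.orth u hu.1 v hv hu.2

/-- Every generator of `L_U` moves elements of `Q_U` only inside their cosets of `U`. -/
theorem comm_gen (h : Sing Q U) {u q x : G} (hu : u ∈ U) (h1 : u ≠ 1) (hq : q ∈ Q u) (hx : x ∈ Q u) :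
    q * x * q⁻¹ * x⁻¹ ∈ U := by
  rcases (h.es u hu h1).conj q hq x hx with e | e <;> rw [e]
  · rw [mul_inv_cancel]; exact one_mem _
  · rw [((h.es u hu h1).comm x hx).eq, mul_inv_cancel_right]; exact hu

theorem gen_le_normalizer (h : Sing Q U) :
    (⨆ u ∈ ((U : Set G) \ {1}), Q u) ≤ Subgroup.normalizer (U : Set G) := by
  refine iSup₂_le fun u hu q hq => ?_
  have key : ∀ q ∈ Q u, ∀ v ∈ U, q * v * q⁻¹ ∈ U := by
    intro q hq v hv
    have := U.mul_mem (h.comm_gen hu.1 hu.2 hq (h.orth u hu.1 v hv hu.2)) hv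
    simpa using this
  rw [Subgroup.mem_normalizer_iff]
  refine fun v => ⟨key q hq v, fun hv => ?_⟩
  have := key q⁻¹ ((Q u).inv_mem hq) _ hv
  simpa [mul_assoc] using this

/-- For orthogonal `s`, `t` the common core lies in the core of their product. -/
theorem inf_le_mul (h : Sing Q U) {s t x : G} (hs : s ∈ U) (ht : t ∈ U) (hs1 : s ≠ 1) (ht1 : t ≠ 1)
    (hxs : x ∈ Q s) (hxt : x ∈ Q t) (hst : t * s ≠ 1) : x ∈ Q (t * s) := by
  have hne : t ≠ s := fun e => hst (by rw [e]; exact h.sq s hs)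
  obtain ⟨g, hg, hgt⟩ := (h.es s hs hs1).exists_conj_ne (h.orth s hs t ht hs1) ht1 hne
  have h2 := h.isQ.mem_conj g hxt
  rw [hgt] at h2
  rcases (h.es s hs hs1).conj g hg x hxs with e | e <;> rw [e] at h2
  · exact h2
  · exact ((Q (t * s)).mul_mem_cancel_right (h.orth _ (U.mul_mem ht hs) s hs hst)).mp h2

end Sing

end Cfsg.Agent.Lib.LargeExtraspecial.Singular
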